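import Mathlib
import Groth.Prelude.Def_W4sga3xxiRoot
import Groth.Agent.Lib.Helper4.RootDPairW

/-!
# Tits' decomposition of Weyl group elements mapping a simple root to a simple root
(for root pairings over `ℤ` with a simple system)
-/

set_option autoImplicit false

open Module Set Submodule RootPairing

namespace Groth.Agent.Lib27.Root

open RootD Groth.Agent.Lib.Helper4.RootDLib

variable {ι M N : Type*} [AddCommGroup M] [AddCommGroup N] {P : RootPairing ι ℤ M N}

/-- Reduction modulo a rank-two parabolic subgroup. -/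
theorem exists_reduce [Finite ι] {Δ : Set ι} (hΔ : IsSimpleSys P Δ) {α γ : ι} (hα : α ∈ Δ)
    (hγ : γ ∈ Δ) :
    ∀ (n : ℕ) (l : List ι), (∀ b ∈ l, b ∈ Δ) → l.length = n →
      ∃ (l' lu : List ι), (∀ b ∈ l', b ∈ Δ) ∧ (∀ b ∈ lu, b = α ∨ b = γ) ∧
        wordProd P l = wordProd P l' * wordProd P lu ∧
        P.root (wordProd P l' • α) ∈ natSpan P Δ ∧ P.root (wordProd P l' • γ) ∈ natSpan P Δ ∧
        l'.length ≤ l.length ∧
        (-P.root (wordProd P l • γ) ∈ natSpan P Δ → l'.length < l.length) := by
  intro n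
  induction n using Nat.strong_induction_on with
  | _ n ih =>
  intro l hl hn
  by_cases hpos : P.root (wordProd P l • α) ∈ natSpan P Δ ∧
      P.root (wordProd P l • γ) ∈ natSpan P Δ
  · refine ⟨l, [], hl, by simp, by simp, hpos.1, hpos.2, le_rfl, ?_⟩
    intro hneg
    exfalso
    exact P.ne_zero _ (pointed_of_linearIndepOn hΔ.linInd _ hpos.2 hneg)
  · have hex : ∃ δ, (δ = α ∨ δ = γ) ∧ -P.root (wordProd P l • δ) ∈ natSpan P Δ := by
      by_contra hcon
      apply hpos
      constructor
      · rcases hΔ.mem_or_neg_mem (wordProd P l • α) with h | h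
        · exact h
        · exact absurd ⟨α, Or.inl rfl, h⟩ hcon
      · rcases hΔ.mem_or_neg_mem (wordProd P l • γ) with h | h
        · exact h
        · exact absurd ⟨γ, Or.inr rfl, h⟩ hcon
    obtain ⟨δ, hδ, hneg⟩ := hex
    have hδΔ : δ ∈ Δ := by
      rcases hδ with rfl | rfl
      · exact hα
      · exact hγ
    obtain ⟨l₁, hl₁, hlen, hprod⟩ := exists_shorter_word hΔ l hl δ hδΔ hneg
    obtain ⟨l', lu, hl', hlu, hw, hpα, hpγ, hle, -⟩ :=
      ih l₁.length (by omega) l₁ hl₁ rfl
    refine ⟨l', lu ++ [δ], hl', ?_, ?_, hpα, hpγ, by omega, fun _ => by omega⟩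
    · intro b hb
      rcases List.mem_append.mp hb with h | h
      · exact hlu b h
      · rw [List.mem_singleton] at h
        rw [h]
        exact hδ
    · have h1 : wordProd P l = wordProd P l₁ * Equiv.reflection P δ := by
        rw [← hprod, mul_assoc, reflection_mul_self, mul_one]
      rw [h1, hw, wordProd_append, mul_assoc]
      simp

/-- elements of the cone of two roots -/
lemma exists_nat_of_mem_natSpan_pair {α γ : ι} {x : M} (hx : x ∈ natSpan P ({α, γ} : Set ι)) :
    ∃ p q : ℕ, x = p • P.root α + q • P.root γ := by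
  induction hx using AddSubmonoid.closure_induction with
  | mem x hx =>
    obtain ⟨i, hi, rfl⟩ := hx
    rcases hi with rfl | hi
    · exact ⟨1, 0, by simp⟩
    · rw [Set.mem_singleton_iff] at hi
      subst hi
      exact ⟨0, 1, by simp⟩
  | zero => exact ⟨0, 0, by simp⟩
  | add a b _ _ iha ihb =>
    obtain ⟨p₁, q₁, rfl⟩ := iha
    obtain ⟨p₂, q₂, rfl⟩ := ihb
    refine ⟨p₁ + p₂, q₁ + q₂, ?_⟩
    rw [add_smul, add_smul]
    abel

/-- a simple root is not a non-trivial combination of two positive roots -/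
lemma eq_of_simple_eq_combination {Δ : Set ι} (hΔ : IsSimpleSys P Δ) {β j k : ι} (hβ : β ∈ Δ)
    (hj : P.root j ∈ natSpan P Δ) (hk : P.root k ∈ natSpan P Δ) {p q : ℕ}
    (h : P.root β = p • P.root j + q • P.root k) :
    (p = 1 ∧ q = 0) ∨ (p = 0 ∧ q = 1) := by
  classical
  obtain ⟨a, ha, hax⟩ := exists_finsupp_of_mem_natSpan hj
  obtain ⟨c, hc, hcx⟩ := exists_finsupp_of_mem_natSpan hk
  have ha0 : a ≠ 0 := by
    rintro rfl
    apply P.ne_zero j
    rw [← hax]
    simp
  have hc0 : c ≠ 0 := by
    rintro rfl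
    apply P.ne_zero k
    rw [← hcx]
    simp
  have hsum : ∀ (n : ℕ) (d : ι →₀ ℕ), ((n • d).sum fun i m => m • P.root i) =
      n • (d.sum fun i m => m • P.root i) := by
    intro n d
    rw [Finsupp.sum_smul_index (by simp), Finsupp.smul_sum]
    simp [mul_smul]
  have key : Finsupp.single β 1 = p • a + q • c := by
    apply finsupp_eq_of_linearIndepOn hΔ.linInd
    · intro i hi
      rw [Finsupp.support_single_ne_zero _ one_ne_zero, Finset.coe_singleton,
        Set.mem_singleton_iff] at hi
      rw [hi]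
      exact hβ
    · intro i hi
      rcases Finset.mem_union.mp (Finsupp.support_add hi) with h' | h'
      · exact ha (Finsupp.support_smul h')
      · exact hc (Finsupp.support_smul h')
    · rw [Finsupp.sum_add_index' (by simp) (by intro i m n; rw [add_smul]), hsum, hsum, hax, hcx,
        ← h]
      simp
  obtain ⟨i, hi⟩ := Finsupp.ne_iff.mp ha0
  obtain ⟨i', hi'⟩ := Finsupp.ne_iff.mp hc0
  simp only [Finsupp.coe_zero, Pi.zero_apply] at hi hi'
  have e1 := DFunLike.congr_fun key i
  have e2 := DFunLike.congr_fun key i'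
  have e3 := DFunLike.congr_fun key β
  simp only [Finsupp.coe_add, Finsupp.coe_smul, Pi.add_apply, Pi.smul_apply, smul_eq_mul,
    Finsupp.single_apply] at e1 e2 e3
  simp only [if_true] at e3
  have hp : p = 0 ∨ 0 < p := Nat.eq_zero_or_pos p
  have hq : q = 0 ∨ 0 < q := Nat.eq_zero_or_pos q
  rcases hp with rfl | hp
  · right
    refine ⟨rfl, ?_⟩
    simp only [zero_mul, zero_add] at e3
    exact Nat.eq_one_of_mul_eq_one_right e3.symm
  · rcases hq with rfl | hq
    · left
      refine ⟨?_, rfl⟩
      simp only [zero_mul, add_zero] at e3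
      exact Nat.eq_one_of_mul_eq_one_right e3.symm
    · exfalso
      have hiβ : β = i := by
        by_contra hne
        rw [if_neg hne] at e1
        have : 0 < p * a i := Nat.mul_pos hp (Nat.pos_of_ne_zero hi)
        omega
      have hi'β : β = i' := by
        by_contra hne
        rw [if_neg hne] at e2
        have : 0 < q * c i' := Nat.mul_pos hq (Nat.pos_of_ne_zero hi')
        omega
      subst hiβ
      subst hi'β
      have h1 : 0 < p * a β := Nat.mul_pos hp (Nat.pos_of_ne_zero hi)
      have h2 : 0 < q * c β := Nat.mul_pos hq (Nat.pos_of_ne_zero hi')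
      omega

lemma aut_smul_nsmul (g : P.Aut) (n : ℕ) (x : M) : g • (n • x) = n • (g • x) := by
  rw [aut_smul_def, aut_smul_def, map_nsmul]

/-- in the situation of the reduction, the element of the rank-two group maps `α` to `α` or `γ` -/
theorem smul_eq_or_of_simple [Finite ι] {Δ : Set ι} (hΔ : IsSimpleSys P Δ) {α γ β : ι} (hα : α ∈ Δ)
    (hγ : γ ∈ Δ) (hβ : β ∈ Δ) (g : P.Aut) (hgα : P.root (g • α) ∈ natSpan P Δ)
    (hgγ : P.root (g • γ) ∈ natSpan P Δ) (lu : List ι) (hlu : ∀ b ∈ lu, b = α ∨ b = γ)
    (h : g • (wordProd P lu • α) = β) :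
    wordProd P lu • α = α ∨ wordProd P lu • α = γ := by
  set r := wordProd P lu • α with hr
  have hsub : ({α, γ} : Set ι) ⊆ Δ := by
    intro i hi
    rcases hi with rfl | hi
    · exact hα
    · rw [Set.mem_singleton_iff] at hi
      rw [hi]
      exact hγ
  have hspan : P.root r ∈ Submodule.span ℤ (P.root '' ({α, γ} : Set ι)) := by
    have h1 := root_wordProd_smul_sub_mem_span (P := P) (Δ' := ({α, γ} : Set ι)) lu
      (fun b hb => by
        rcases hlu b hb with rfl | rfl
        · exact Set.mem_insert _ _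
        · exact Set.mem_insert_of_mem _ rfl) α
    have h2 : P.root r = (P.root r - P.root α) + P.root α := by abel
    rw [h2]
    exact Submodule.add_mem _ h1 (root_mem_span_image (Set.mem_insert _ _))
  have hβr : P.root β = g • P.root r := by
    rw [← h, root_smul]
  rcases hΔ.mem_or_neg_mem r with hpos | hneg
  · have h1 := mem_natSpan_of_mem_span hΔ.linInd hsub hpos hspan
    obtain ⟨p, q, hpq⟩ := exists_nat_of_mem_natSpan_pair h1
    have h2 : P.root β = p • P.root (g • α) + q • P.root (g • γ) := by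
      rw [hβr, hpq, smul_add, aut_smul_nsmul, aut_smul_nsmul, root_smul, root_smul]
    rcases eq_of_simple_eq_combination hΔ hβ hgα hgγ h2 with ⟨rfl, rfl⟩ | ⟨rfl, rfl⟩
    · left
      apply P.root.injective
      rw [hpq]
      simp
    · right
      apply P.root.injective
      rw [hpq]
      simp
  · exfalso
    have h1 := mem_natSpan_of_mem_span hΔ.linInd hsub hneg (Submodule.neg_mem _ hspan)
    obtain ⟨p, q, hpq⟩ := exists_nat_of_mem_natSpan_pair h1
    have h2 : -P.root β = p • P.root (g • α) + q • P.root (g • γ) := by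
      rw [hβr, ← smul_neg, hpq, smul_add, aut_smul_nsmul, aut_smul_nsmul, root_smul, root_smul]
    have h3 : -P.root β ∈ natSpan P Δ := by
      rw [h2]
      exact add_mem (nsmul_mem hgα _) (nsmul_mem hgγ _)
    exact P.ne_zero β (pointed_of_linearIndepOn hΔ.linInd _ (root_mem_natSpan P hβ) h3)

/-- chains of elementary moves between simple roots -/
inductive Chain (P : RootPairing ι ℤ M N) (Δ : Set ι) : ι → ι → P.Aut → Prop
  | nil (α : ι) : Chain P Δ α α 1
  | cons {α α' β γ : ι} {w' : P.Aut} (lu : List ι) (hlu : ∀ b ∈ lu, b = α ∨ b = γ) (hγ : γ ∈ Δ)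
      (hα' : α' ∈ Δ) (hu : wordProd P lu • α = α') (hne : α ≠ α' → γ = α')
      (hrest : Chain P Δ α' β w') : Chain P Δ α β (w' * wordProd P lu)

theorem chain_of_word [Finite ι] {Δ : Set ι} (hΔ : IsSimpleSys P Δ) :
    ∀ (n : ℕ) (l : List ι), (∀ b ∈ l, b ∈ Δ) → l.length ≤ n → ∀ α β, α ∈ Δ → β ∈ Δ →
      wordProd P l • α = β → Chain P Δ α β (wordProd P l) := by
  classical
  intro n
  induction n with
  | zero =>
    intro l hl hn α β hα hβ h
    have : l = [] := List.eq_nil_of_length_eq_zero (by omega)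
    subst this
    rw [wordProd_nil, one_smul] at h
    subst h
    rw [wordProd_nil]
    exact Chain.nil α
  | succ n ih =>
    intro l hl hn α β hα hβ h
    -- a minimal word
    have hex : ∃ k : ℕ, ∃ l₀ : List ι, (∀ a ∈ l₀, a ∈ Δ) ∧ wordProd P l₀ = wordProd P l ∧
        l₀.length = k := ⟨_, l, hl, rfl, rfl⟩
    obtain ⟨l₀, hl₀, hl₀w, hlen⟩ := Nat.find_spec hex
    have hmin : ∀ l' : List ι, (∀ a ∈ l', a ∈ Δ) → wordProd P l' = wordProd P l₀ →
        l₀.length ≤ l'.length := by
      intro l' hl' hw
      rw [hlen]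
      exact Nat.find_min' hex ⟨l', hl', hw.trans hl₀w, rfl⟩
    have hl₀n : l₀.length ≤ n + 1 := (hmin l hl hl₀w.symm).trans hn
    rw [← hl₀w] at h ⊢
    by_cases hne : l₀ = []
    · subst hne
      rw [wordProd_nil, one_smul] at h
      subst h
      rw [wordProd_nil]
      exact Chain.nil α
    · set γ := l₀.getLast hne with hγdef
      have hγ : γ ∈ Δ := hl₀ γ (List.getLast_mem hne)
      have hneg := neg_root_last_of_minimal_word hΔ l₀ hl₀ hne hmin
      obtain ⟨l', lu, hl', hlu, hw, hpα, hpγ, -, hlt⟩ :=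
        exists_reduce hΔ hα hγ l₀.length l₀ hl₀ rfl
      have hlt' := hlt hneg
      have h' : wordProd P l' • (wordProd P lu • α) = β := by
        rw [← mul_smul, ← hw]
        exact h
      have hor := smul_eq_or_of_simple hΔ hα hγ hβ (wordProd P l') hpα hpγ lu hlu h'
      have hα' : wordProd P lu • α ∈ Δ := by
        rcases hor with h1 | h1
        · rw [h1]; exact hα
        · rw [h1]; exact hγ
      have hrest := ih l' hl' (by omega) (wordProd P lu • α) β hα' hβ h'
      rw [hw]
      refine Chain.cons lu hlu hγ hα' rfl ?_ hrest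
      intro hne'
      rcases hor with h1 | h1
      · exact absurd h1.symm hne'
      · exact h1.symm

/-- Unfolding a chain into families indexed by `Fin`. -/
theorem Chain.exists_fin {Δ : Set ι} {α β : ι} {w : P.Aut} (h : Chain P Δ α β w) (hα : α ∈ Δ) :
    ∃ (m : ℕ) (a : Fin (m + 1) → ι) (lus : Fin m → List ι) (γs : Fin m → ι),
      (∀ i, a i ∈ Δ) ∧ a 0 = α ∧ a (Fin.last m) = β ∧ (∀ i, γs i ∈ Δ) ∧
      (∀ i, ∀ x ∈ lus i, x = a (Fin.castSucc i) ∨ x = γs i) ∧
      w = (List.ofFn fun i : Fin m => wordProd P (lus (Fin.rev i))).prod ∧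
      (∀ i : Fin m, wordProd P (lus i) • a (Fin.castSucc i) = a (Fin.succ i)) ∧
      (∀ i : Fin m, a (Fin.castSucc i) ≠ a (Fin.succ i) → γs i = a (Fin.succ i)) := by
  induction h with
  | nil α =>
    exact ⟨0, fun _ => α, Fin.elim0, Fin.elim0, fun _ => hα, rfl, rfl, fun i => i.elim0,
      fun i => i.elim0, by simp, fun i => i.elim0, fun i => i.elim0⟩
  | @cons α α' β γ w' lu hlu hγ hα' hu hne hrest ih =>
    obtain ⟨m, a, lus, γs, ha, ha0, hal, hγs, hlet, hw, hstep, hγc⟩ := ih hα'
    refine ⟨m + 1, Fin.cons α a, Fin.cons lu lus, Fin.cons γ γs, ?_, ?_, ?_, ?_, ?_, ?_, ?_, ?_⟩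
    · intro i
      refine Fin.cases ?_ (fun j => ?_) i
      · simpa using hα
      · simpa using ha j
    · simp
    · rw [← Fin.succ_last, Fin.cons_succ]
      exact hal
    · intro i
      refine Fin.cases ?_ (fun j => ?_) i
      · simpa using hγ
      · simpa using hγs j
    · intro i
      refine Fin.cases ?_ (fun j => ?_) i
      · intro x hx
        simp only [Fin.cons_zero, Fin.castSucc_zero] at hx ⊢
        exact hlu x hx
      · intro x hx
        simp only [Fin.cons_succ, ← Fin.succ_castSucc] at hx ⊢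
        exact hlet j x hx
    · rw [List.ofFn_succ', List.concat_eq_append, List.prod_append, List.prod_singleton]
      simp only [Fin.rev_last, Fin.cons_zero, Fin.rev_castSucc, Fin.cons_succ]
      rw [← hw]
    · intro i
      refine Fin.cases ?_ (fun j => ?_) i
      · simp only [Fin.cons_zero, Fin.castSucc_zero, Fin.cons_succ]
        rw [hu, ha0]
      · simp only [Fin.cons_succ, ← Fin.succ_castSucc]
        exact hstep j
    · intro i
      refine Fin.cases ?_ (fun j => ?_) i
      · simp only [Fin.cons_zero, Fin.castSucc_zero, Fin.cons_succ]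
        rw [ha0]
        exact hne
      · simp only [Fin.cons_succ, ← Fin.succ_castSucc]
        exact hγc j

end Groth.Agent.Lib27.Root
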